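import Cfsg.Agent.ThreeFour.Arith.Defs
import Cfsg.Agent.ThreeFour.Basic
import Cfsg.Agent.Small.Toolkit

/-!
The criterion for the primes dividing the order exactly once.
-/

set_option autoImplicit false

namespace Cfsg.Lib.ThreeFour

open Subgroup

universe u

namespace Arith

variable {G : Type u} [Group G] {x τ : G} {V : Subgroup G}

theorem pow_six (H : Hyp x V) {z : G} (hz : Commute z x) : z ^ 6 = 1 := by
  obtain ⟨i, hi, u, hu, rfl⟩ := H.cent z hz
  rw [show (6 : ℕ) = 3 * 2 from rfl, pow_mul, H.cube hi hu, pow_two, H.sq u hu]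

variable [Finite G]

/-- The elements commuting with an element of order three have sixth power one. -/
theorem pow_six_of_commute (H : Hyp x V) {a y : G} (ha : orderOf a = 3) (hy : Commute y a) : y ^ 6 = 1 := by
  obtain ⟨g, hg⟩ := H.exists_conj_mem ha
  have h1 : Commute (g⁻¹ * y * g) (g⁻¹ * a * g) := by
    simpa using hy.map (MulAut.conj g⁻¹).toMonoidHom
  have h2 : Commute (g⁻¹ * y * g) x := by
    rcases hg with e | e
    · exact e ▸ h1
    · exact inv_inv x ▸ (e ▸ h1).inv_right
  have h3 := pow_six H h2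
  rw [show g⁻¹ * y * g = MulAut.conj g⁻¹ y by simp, ← map_pow, MulEquiv.map_eq_one_iff] at h3
  exact h3

end Arith

theorem critStmt : CritStmt.{u} := by
  intro G _ _ x V τ F h S ht P p hp hp7 hpG hp2
  have H := S.hyp
  haveI := S.simple
  haveI : Fact p.Prime := ⟨hp⟩
  obtain ⟨a, ha⟩ := exists_prime_orderOf_dvd_card' (G := G) p hpG
  have hA : Nat.card (zpowers a) = p := by rw [Nat.card_zpowers, ha]
  set A := zpowers a with hAdef
  have haA : a ∈ A := mem_zpowers a
  set N := normalizer (A : Set G) with hN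
  set C := centralizer (A : Set G) with hC
  have hAC : A ≤ C := fun y hy => mem_centralizer_iff.2 fun z hz => by
    obtain ⟨i, rfl⟩ := mem_zpowers_iff.1 hy
    obtain ⟨j, rfl⟩ := mem_zpowers_iff.1 hz
    exact (Commute.zpow_zpow (Commute.refl a) j i).eq
  have hCN : C ≤ N := centralizer_le_normalizer _
  have hcomm : ∀ y ∈ C, Commute y a := fun y hy => (mem_centralizer_iff.1 hy a haA).symm
  -- the Sylow subgroup
  obtain ⟨Q, hQ⟩ := (IsPGroup.of_card (p := p) (n := 1) (hA.trans (pow_one p).symm)).exists_le_sylow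
  have hfac : (Nat.card G).factorization p = 1 := by
    refine le_antisymm ?_ (hp.factorization_pos_of_dvd Nat.card_pos.ne' hpG)
    by_contra hn
    push_neg at hn
    exact hp2 ((pow_dvd_pow p hn).trans (Nat.ordProj_dvd _ p))
  have hQA : (Q : Subgroup G) = A := (Subgroup.eq_of_le_of_card_ge hQ (by
    rw [hA, Q.card_eq_multiplicity, hfac, pow_one])).symm
  -- the action of the normaliser
  obtain ⟨D, hD⟩ : p ∣ Nat.card C := hA ▸ Subgroup.card_dvd_of_le hAC
  let φ := A.normalizerMonoidHom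
  have hker : φ.ker = C.subgroupOf N := normalizerMonoidHom_ker A
  set k := Nat.card φ.range with hk
  have hNk : Nat.card N = p * k * D := by
    rw [← Subgroup.card_mul_index φ.ker, Subgroup.index_ker, hker,
      Nat.card_congr (Subgroup.subgroupOfEquivOfLe hCN).toEquiv, hD, hk]
    ring
  have hkp : k ∣ p - 1 := by
    have h1 := Subgroup.card_subgroup_dvd_card φ.range
    rwa [IsCyclic.card_mulAut, hA, Nat.totient_prime hp] at h1
  have hdvd : p * k * D ∣ Nat.card G := hNk ▸ Subgroup.card_subgroup_dvd_card N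
  have hD0 : 0 < D := Nat.pos_of_ne_zero fun e => (Nat.card_pos (α := C)).ne' (by rw [hD, e, mul_zero])
  have hpD : ¬ p ∣ D := fun hd => hp2 ((by
    obtain ⟨d, rfl⟩ := hd
    exact ⟨k * d, by ring⟩ : p ^ 2 ∣ p * k * D).trans hdvd)
  have hDC : ∀ q : ℕ, q ∣ D → q ∣ Nat.card C := fun q hq => hD ▸ hq.mul_left p
  refine ⟨k, D, hdvd, ?_, ?_, hkp, ?_, ?_, ?_, ?_⟩
  · rw [← hNk, ← Subgroup.card_mul_index N, Nat.mul_div_cancel_left _ Nat.card_pos, hN, ← hQA]
    have h1 : (normalizer ((Q : Subgroup G) : Set G)).index % p = 1 % p :=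
      Q.card_eq_index_normalizer ▸ card_sylow_modEq_one p G
    rwa [Nat.mod_eq_of_lt hp.one_lt] at h1
  · by_contra hk2
    have hk1 : k = 1 := by
      have : 0 < k := Nat.card_pos
      omega
    have hnc : ¬ ∀ y z : G, y * z = z * y := Cfsg.Lib.Small.not_comm_of_isSimple fun hpr => by
      have h3 := (Nat.prime_dvd_prime_iff_eq Nat.prime_three hpr).1 H.three_dvd
      have := (Nat.prime_dvd_prime_iff_eq hp hpr).1 hpG
      omega
    apply Cfsg.Lib.Small.not_normalizer_le_centralizer hnc hpG Q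
    rw [hQA]
    intro y hy
    have h1 : (⟨y, hy⟩ : N) ∈ φ.ker := by
      have hbot : φ.range = ⊥ := Subgroup.card_eq_one.1 (hk ▸ hk1)
      rw [MonoidHom.range_eq_bot_iff] at hbot
      rw [hbot]; simp
    rw [hker, mem_subgroupOf] at h1
    exact h1
  · intro h12
    have hcyc : IsCyclic (MulAut A) := by
      haveI : IsCyclic A := isCyclic_of_prime_card hA
      haveI : Fact (Nat.card A).Prime := ⟨hA.symm ▸ hp⟩
      exact isCyclic_of_surjective (IsCyclic.mulAutMulEquiv A).symm.toMonoidHom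
        (IsCyclic.mulAutMulEquiv A).symm.surjective
    haveI := hcyc
    obtain ⟨⟨g, hg⟩, hgen⟩ := IsCyclic.exists_ofOrder_eq_natCard (α := φ.range)
    obtain ⟨y, rfl⟩ := hg
    have h1 : 12 ∣ orderOf (y : G) := by
      have hgen' : orderOf (φ y) = k := by rw [← Subgroup.orderOf_coe] at hgen; exact hgen
      refine h12.trans ?_
      rw [← hgen', Subgroup.orderOf_coe y]
      exact orderOf_map_dvd φ y
    have hpos : 0 < orderOf (y : G) := orderOf_pos _
    have h3 : orderOf ((y : G) ^ (orderOf (y : G) / 3)) = 3 :=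
      orderOf_pow_orderOf_div hpos.ne' ((by norm_num : 3 ∣ 12).trans h1)
    have h4 := Arith.pow_six_of_commute H h3 ((Commute.refl (y : G)).pow_right _)
    have h5 := Nat.le_of_dvd (by norm_num) (h1.trans (orderOf_dvd_of_pow_eq_one h4))
    omega
  · intro h3
    haveI : Fact (Nat.Prime 3) := ⟨Nat.prime_three⟩
    obtain ⟨y, hy⟩ := exists_prime_orderOf_dvd_card' (G := C) 3 (hDC 3 h3)
    rw [← Subgroup.orderOf_coe] at hy
    have h4 := orderOf_dvd_of_pow_eq_one (Arith.pow_six_of_commute H hy (hcomm y y.2).symm)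
    rw [ha] at h4
    have := Nat.le_of_dvd (by norm_num) h4
    omega
  · intro h2
    haveI : Fact (Nat.Prime 2) := ⟨Nat.prime_two⟩
    obtain ⟨y, hy⟩ := exists_prime_orderOf_dvd_card' (G := C) 2 (hDC 2 h2)
    rw [← Subgroup.orderOf_coe] at hy
    refine ⟨y, hy, ?_⟩
    have hm : ∀ z : G, Commute z y → orderOf z ∣ cen (y : G) := fun z hz => by
      have := orderOf_dvd_natCard (⟨z, mem_centralizer_singleton_iff.2 hz.eq⟩ : centralizer ({(y : G)} : Set G))
      rwa [Subgroup.orderOf_mk] at this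
    have d1 := hm _ (Commute.refl _)
    have d2 := hm a (hcomm y y.2).symm
    rw [hy] at d1
    rw [ha] at d2
    exact Nat.Coprime.mul_dvd_of_dvd_of_dvd
      ((Nat.coprime_primes Nat.prime_two hp).2 (by omega)) d1 d2
  · intro q hq hqD
    haveI : Fact q.Prime := ⟨hq⟩
    obtain ⟨y, hy⟩ := exists_prime_orderOf_dvd_card' (G := C) q (hDC q hqD)
    rw [← Subgroup.orderOf_coe] at hy
    have hne : p ≠ q := fun e => hpD (e ▸ hqD)
    have hord : orderOf (a * y) = p * q := by
      rw [(hcomm y y.2).symm.orderOf_mul_eq_mul_orderOf_of_coprime, ha, hy]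
      rw [ha, hy]
      exact (Nat.coprime_primes hp hq).2 hne
    exact ⟨fun hs => P.no_mixed p q hp hq hs.1 hs.2.1 hs.2.2.1 hs.2.2.2 _ (by rw [hord]),
      fun hs => P.no_mixed q p hq hp hs.1 hs.2.1 hs.2.2.1 hs.2.2.2 _ (by rw [hord, mul_comm])⟩

end Cfsg.Lib.ThreeFour
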