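import Cfsg.Agent.ThreeFour.Defs

/-!
The interface of the arithmetical endgame: normal form of the orders, the criterion for a prime dividing the order
exactly once, and the finite search.
-/

set_option autoImplicit false

namespace Cfsg.Lib.ThreeFour

open Subgroup

universe u

variable {G : Type u} [Group G]

/-- The normal form of the orders supplied by the cross formula. -/
structure Norm (x : G) (V : Subgroup G) (τ : G) (F : ℕ) (h : G → ℤ) (s k : ℕ) : Prop where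
  kk : k = 1 ∨ k = 2 ∧ Nat.card V = 2
  mu_dvd : ∀ t : G, orderOf t = 2 → k ∣ mu V τ t
  mu_one : k = 1 → ∃ t : G, orderOf t = 2 ∧ mu V τ t % 2 = 1
  three : 3 ∣ s ∧ ¬ 9 ∣ s
  card_eq : 3 * k ^ 2 * Nat.card G = s ^ 2 * F * (F + 1) * Nat.card V
  cen_eq : ∀ t : G, orderOf t = 2 →
    (3 : ℤ) * k * mu V τ t * cen t = s * Nat.card V * ((F : ℤ) - h t)

/-- The statement of the normal form. -/
def NormStmt : Prop :=
  ∀ (G : Type u) [Group G] [Finite G] (x : G) (V : Subgroup G) (τ : G) (F : ℕ) (h : G → ℤ),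
    Setting x V → Tau x V τ → Principal x V τ F h →
      ∃ s k : ℕ, Norm x V τ F h s k

/-- The two primes are separated by the principal family. -/
def Separated (g F p q : ℕ) : Prop :=
  p ∣ F ∧ q ∣ F + 1 ∧ g.factorization p = F.factorization p ∧
    g.factorization q = (F + 1).factorization q

/-- The possible normalisers of a Sylow subgroup of prime order `p`: `k * D * p` is the order of the normaliser,
`D * p` that of the centraliser, and `Ev` says whether some involution centraliser has order divisible by `2 * p`. -/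
def Crit (g F p : ℕ) (Ev : Prop) : Prop :=
  ∃ k D : ℕ, p * k * D ∣ g ∧ g / (p * k * D) % p = 1 ∧ 2 ≤ k ∧ k ∣ p - 1 ∧ ¬ 12 ∣ k ∧ ¬ 3 ∣ D ∧
    (2 ∣ D → Ev) ∧ ∀ q : ℕ, q.Prime → q ∣ D → ¬ Separated g F p q ∧ ¬ Separated g F q p

/-- The statement of the criterion. -/
def CritStmt : Prop :=
  ∀ (G : Type u) [Group G] [Finite G] (x : G) (V : Subgroup G) (τ : G) (F : ℕ) (h : G → ℤ),
    Setting x V → Tau x V τ → Principal x V τ F h →
      ∀ p : ℕ, p.Prime → 7 ≤ p → p ∣ Nat.card G → ¬ p ^ 2 ∣ Nat.card G →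
        Crit (Nat.card G) F p (∃ t : G, orderOf t = 2 ∧ 2 * p ∣ cen t)

/-- The arithmetical content of a class of involutions with `μ`, centraliser order `c` and `L = F - h`. -/
structure ClassData (g s v k F μ c L : ℕ) : Prop where
  four : 4 ∣ L
  pos : 0 < L
  lt : L < 2 * F
  eqn : 3 * k * μ * c = s * v * L
  dvd : c ∣ g
  sq_le : 1 + ((F : ℤ) - L) ^ 2 + ((F : ℤ) - L + 1) ^ 2 ≤ c
  dvd_F : (F : ℤ) * c ∣ ((F : ℤ) - L) * g
  dvd_F1 : ((F : ℤ) + 1) * c ∣ ((F : ℤ) - L + 1) * g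

/-- The bound on the two-elements in the count of triangles. -/
def pureBound (g v : ℕ) : ℕ :=
  let S := 2 ^ g.factorization 2
  if S * S ≤ g then max ((v + 1) * S / 2) (2 * v * S + S / 2) else (v + 1) * S / 2

/-- The part of `n` prime to two. -/
def oddPart (n : ℕ) : ℕ := n / 2 ^ n.factorization 2

/-- The hypotheses of the finite search, after the local analysis. -/
structure Data (g v k b F : ℕ) : Prop where
  shape : v = 2 ∧ (k = 1 ∨ k = 2) ∨ v = 4 ∧ k = 1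
  ge : 7 ≤ F
  mod_three : F % 3 = 1
  mod_five : F % 5 ≠ 0 ∧ (F + 1) % 5 ≠ 0
  card_eq : 3 * k ^ 2 * g = (3 * 2 ^ b) ^ 2 * F * (F + 1) * v
  five : ¬ 5 ∣ g
  even : 4 ∣ g
  count : (if v = 2 then 13 else 7) * g ≤
    16 * 9 * v ^ 2 * (1 + 2 * v * (oddPart F + oddPart (F + 1)) + pureBound g v)
  u_class : ∃ μ c L j : ℕ, k ∣ μ ∧ 0 < μ ∧ (μ = k ∨ v = 4 ∧ μ = 2) ∧ c = 6 * (v * 4 ^ j) ∧
    ClassData g (3 * 2 ^ b) v k F μ c L
  central : ∃ μ c L : ℕ, k ∣ μ ∧ 0 < μ ∧ (μ = k ∨ v = 4 ∧ μ = 2) ∧ 2 ^ g.factorization 2 ∣ c ∧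
    ((∃ j : ℕ, c = 6 * (v * 4 ^ j)) ∨ ¬ 3 ∣ c ∧ μ = 1) ∧ ClassData g (3 * 2 ^ b) v k F μ c L
  crit : ∀ p : ℕ, p.Prime → 7 ≤ p → p ∣ g → ¬ p ^ 2 ∣ g →
    Crit g F p (∃ μ c L : ℕ, k ∣ μ ∧ 0 < μ ∧ (μ = k ∨ v = 4 ∧ μ = 2) ∧ 2 * p ∣ c ∧ ¬ 3 ∣ c ∧ μ = 1 ∧
      ClassData g (3 * 2 ^ b) v k F μ c L)

/-- The statement of the finite search. -/
def ScanStmt : Prop :=
  ∀ g v k b F : ℕ, Data g v k b F → v = 2 ∧ k = 2 ∧ b = 1 ∧ F = 13 ∧ g = 1092

end Cfsg.Lib.ThreeFour
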