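import Cfsg.Agent.ThreeFour.Arith.Table

/-!
The Boolean functions and their evaluation for the searches with a centraliser order divisible by seven
or by a high power of two.
-/

set_option autoImplicit false

namespace Cfsg.Lib.ThreeFour.LocalScan

open Scan (okClass normB sepB two uP)

/-- The primes used to exclude a configuration. -/
def killers : List ℕ := [11, 13, 17, 19, 23, 29, 31, 41, 43, 47, 59, 67, 97, 223]

/-- The primes used for separation. -/
def seconds : List ℕ := 7 :: killers

/-- The centraliser orders of the classes with a given multiplicity. -/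
def clList (g v k s F μ : ℕ) : List ℕ :=
  ((List.range ((F + 1) / 2)).filter fun i =>
      s * v * (4 * i) % (3 * k * μ) == 0 && okClass g F (s * v * (4 * i) / (3 * k * μ)) (4 * i)).map
    fun i => s * v * (4 * i) / (3 * k * μ)

/-- Some order in the list is divisible by `d`. -/
def anyB (d : ℕ) (cs : List ℕ) : Bool := cs.any fun a => a % d == 0

/-- A configuration is excluded. -/
def deadC (g F : ℕ) (cs : List ℕ) : Bool :=
  !(anyB (two g) cs) || killers.any fun p =>
    g % p == 0 && g % (p * p) != 0 && g % 3 == 0 && !(anyB (2 * p) cs) &&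
      ((List.range (g / p / two g / 3 + 1)).filter fun D => g / p / two g / 3 % D == 0).all fun D =>
        (List.range p).all fun kk => !(normB g p kk D) ||
          seconds.any fun q => D % q == 0 && g % q == 0 && (sepB g F p q || sepB g F q p)

/-- The admissible orders of the second and the third centraliser. -/
def pairOK (c a b : ℕ) : Bool :=
  if c == 672 then a % 3 == 0 && b % 3 == 0
  else if c == 2688 then uP 4 a && (uP 4 b || b == 2688) else uP 4 a && uP 4 b

/-- The configurations with four elements in `V` are excluded. -/
def fourDead (g s F c μ : ℕ) : Bool :=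
  [1, 2].all fun m₂ => [1, 2].all fun m₃ =>
    (clList g 4 1 s F m₂).all fun a => (clList g 4 1 s F m₃).all fun b => !(pairOK c a b) ||
      ((μ + m₂ + m₃ != 4 || deadC g F [c, a, b]) &&
        (μ + m₂ + m₃ != 3 || (clList g 4 1 s F 1).all fun z => z % 3 == 0 || deadC g F [c, a, b, z]))

/-- The configurations with two elements in `V` are excluded. -/
def twoDead (g k s F c : ℕ) : Bool :=
  if k == 2 then deadC g F [c]
  else (clList g 2 1 s F 1).all fun z => z % 3 == 0 || deadC g F [c, z]

/-- All possibilities for `F` and `s`, given one class, satisfy `P`. -/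
def allRows (v k c μ : ℕ) (P : ℕ → ℕ → ℕ → Bool) : Bool :=
  (List.range (3 * k * μ * c / (4 * v) + 1)).all fun i =>
    !(3 * k * μ * c % (v * (4 * i)) == 0 && 3 * k * μ * c / (v * (4 * i)) % 3 == 0 &&
        3 * k * μ * c / (v * (4 * i)) % 9 != 0) ||
      (List.range 159).all fun j =>
        let F := 4 * i + j - 79
        let s := 3 * k * μ * c / (v * (4 * i))
        let g := s * s * F * (F + 1) * v / (3 * k * k)
        !(decide (7 ≤ F) && F % 3 == 1 && F % 5 != 0 && (F + 1) % 5 != 0 && decide (4 * i < 2 * F) &&
            g % 7 == 0 && g % 5 != 0 && decide (1 + F ^ 2 + (F + 1) ^ 2 ≤ g) && okClass g F c (4 * i)) ||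
          P g s F

/-- The rows for two elements in `V`. -/
def rowTwo (k c : ℕ) (g s F : ℕ) : Bool :=
  twoDead g k s F c || (c == 336 && s == 21 && F == 31)

/-- The rows for four elements in `V`. -/
def rowFour (c μ : ℕ) (g s F : ℕ) : Bool :=
  fourDead g s F c μ || (c == 672 && s == 6 && F == 76)

theorem search_two :
    (allRows 2 1 336 1 (rowTwo 1 336) && allRows 2 1 192 1 (rowTwo 1 192) &&
      allRows 2 2 192 2 (rowTwo 2 192)) = true := by
  decide +kernel

theorem search_672 : [1, 2].all (fun μ => allRows 4 1 672 μ (rowFour 672 μ)) = true := by decide +kernel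

theorem search_2688 : [1, 2].all (fun μ => allRows 4 1 2688 μ (rowFour 2688 μ)) = true := by decide +kernel

theorem search_384 : [1, 2].all (fun μ => allRows 4 1 384 μ (rowFour 384 μ)) = true := by decide +kernel

theorem search_1536 : [1, 2].all (fun μ => allRows 4 1 1536 μ (rowFour 1536 μ)) = true := by decide +kernel

theorem search_6144 : [1, 2].all (fun μ => allRows 4 1 6144 μ (rowFour 6144 μ)) = true := by decide +kernel

end Cfsg.Lib.ThreeFour.LocalScan
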