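import Mathlib

/-!
The Boolean functions of the finite search and their evaluation.
-/

set_option autoImplicit false

namespace Cfsg.Lib.ThreeFour.Scan

/-- The order in terms of the parameters. -/
def gOf (v k b F : ℕ) : ℕ := 3 * 4 ^ b * F * (F + 1) * v / (k * k)

/-- The two-part of a number below `2 ^ 200`. -/
def two (n : ℕ) : ℕ := Nat.gcd n (2 ^ 200)

/-- The part prime to two of a number below `2 ^ 200`. -/
def od (n : ℕ) : ℕ := n / two n

/-- The bound on the two-elements. -/
def pureB (g S v : ℕ) : ℕ :=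
  if S * S ≤ g then max ((v + 1) * S / 2) (2 * v * S + S / 2) else (v + 1) * S / 2

/-- The conditions not depending on the classes. -/
def coarse (v k b F : ℕ) : Bool :=
  F % 5 != 0 && (F + 1) % 5 != 0 && gOf v k b F % 4 == 0 &&
    decide (k * k * two (gOf v k b F) < 2 ^ (b + 1) * v * F) &&
    decide ((if v == 2 then 13 else 7) * gOf v k b F ≤
      16 * 9 * v ^ 2 * (1 + 2 * v * (od F + od (F + 1)) + pureB (gOf v k b F) (two (gOf v k b F)) v))

/-- The possible values of the multiplicity. -/
def mus (v k : ℕ) : List ℕ := if k == 2 then [2] else if v == 4 then [1, 2] else [1]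

/-- The conditions on a class. -/
def okClass (g F c L : ℕ) : Bool :=
  g % c == 0 && decide (1 + ((F : ℤ) - L) * ((F : ℤ) - L) + ((F : ℤ) - L + 1) * ((F : ℤ) - L + 1) ≤ (c : ℤ)) &&
    decide (((F : ℤ) - L) * g % ((F : ℤ) * c) = 0) && decide (((F : ℤ) - L + 1) * g % (((F : ℤ) + 1) * c) = 0)

/-- Some class satisfies `P`. -/
def anyCls (v k b F : ℕ) (P : ℕ → ℕ → Bool) : Bool :=
  (mus v k).any fun μ => (List.range ((F + 1) / 2)).any fun i =>
    2 ^ b * v * (4 * i) % (k * μ) == 0 && P μ (2 ^ b * v * (4 * i) / (k * μ)) &&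
      okClass (gOf v k b F) F (2 ^ b * v * (4 * i) / (k * μ)) (4 * i)

/-- The centraliser orders of the elements of `V`. -/
def uP (v c : ℕ) : Bool := (List.range 100).any fun j => c == 6 * (v * 4 ^ j)

/-- The centraliser orders of central involutions. -/
def zP (v S μ c : ℕ) : Bool := c % S == 0 && (uP v c || (c % 3 != 0 && μ == 1))

/-- The centraliser orders that make the centraliser of a `p`-element even. -/
def eP (p μ c : ℕ) : Bool := c % (2 * p) == 0 && c % 3 != 0 && μ == 1

/-- All the conditions but the criterion. -/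
def cand (v k b F : ℕ) : Bool :=
  coarse v k b F && anyCls v k b F (fun _ c => uP v c) &&
    anyCls v k b F (fun μ c => zP v (two (gOf v k b F)) μ c)

/-- The parameters that remain, with the data for the criterion: the prime `p`, the other prime `q` and the
exponent of two. -/
def rows : List (ℕ × ℕ × ℕ × ℕ × ℕ × ℕ × ℕ) :=
  [(2, 1, 1, 13, 13, 7, 4), (4, 1, 0, 13, 13, 7, 3), (4, 1, 1, 13, 13, 7, 5), (4, 1, 1, 22, 11, 23, 5),
   (4, 1, 1, 88, 89, 11, 7), (4, 1, 1, 103, 103, 13, 7), (4, 1, 2, 13, 13, 7, 7), (4, 1, 2, 22, 11, 23, 7),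
   (4, 1, 2, 37, 19, 37, 7), (4, 1, 2, 46, 23, 47, 7), (4, 1, 2, 88, 89, 11, 9), (4, 1, 3, 13, 13, 7, 9),
   (4, 1, 3, 22, 11, 23, 9), (4, 1, 3, 28, 29, 7, 10), (4, 1, 3, 37, 37, 19, 9), (4, 1, 3, 43, 43, 11, 10),
   (4, 1, 3, 52, 53, 13, 10), (4, 1, 4, 22, 11, 23, 11), (4, 1, 4, 37, 19, 37, 11)]

/-- The parameters that remain. -/
def remain : List (ℕ × ℕ × ℕ × ℕ) :=
  (2, 2, 1, 13) :: rows.map fun r => (r.1, r.2.1, r.2.2.1, r.2.2.2.1)

/-- Primality by trial division. -/
def isPr (p : ℕ) : Bool := decide (2 ≤ p) && (List.range p).all fun m => decide (m < 2) || p % m != 0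

/-- The separation of two primes dividing the order once. -/
def sepB (g F p q : ℕ) : Bool :=
  F % p == 0 && (F + 1) % q == 0 && g % (p * p) != 0 && g % (q * q) != 0 && F % (p * p) != 0 &&
    (F + 1) % (q * q) != 0

/-- The test of a possible normaliser. -/
def normB (g p kk D : ℕ) : Bool :=
  decide (2 ≤ kk) && (p - 1) % kk == 0 && kk % 12 != 0 && g % (p * kk * D) == 0 && g / (p * kk * D) % p == 1

/-- A row fails the criterion. -/
def dead (r : ℕ × ℕ × ℕ × ℕ × ℕ × ℕ × ℕ) : Bool :=
  match r with
  | (v, k, b, F, p, q, a) =>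
    gOf v k b F == p * (q * (2 ^ a * 3)) && isPr p && isPr q && decide (7 ≤ p) && decide (5 ≤ q) &&
      gOf v k b F % (p * p) != 0 && !(anyCls v k b F (eP p)) &&
      (List.range p).all fun kk => !(normB (gOf v k b F) p kk 1) &&
        (!(normB (gOf v k b F) p kk q) || sepB (gOf v k b F) F p q)

theorem dead_rows : rows.all dead = true := by decide +kernel

/-- One line of the search. -/
def line (v k n b : ℕ) : Bool :=
  (List.range n).all fun i => !(cand v k b (7 + 3 * i)) || remain.contains (v, k, b, 7 + 3 * i)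

theorem search_two_two : ((List.range 11).all (line 2 2 112)) = true := by decide +kernel

theorem search_two_one : ((List.range 11).all (line 2 1 46)) = true := by decide +kernel

theorem search_four : ((List.range 11).all (line 4 1 484)) = true := by decide +kernel

end Cfsg.Lib.ThreeFour.Scan
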