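import Cfsg.Agent.ThreeFour.Arith.Defs
import Cfsg.Agent.ThreeFour.Arith.Table

/-!
The finite search: the bounds on the parameters and the evaluation.
-/

set_option autoImplicit false

namespace Cfsg.Lib.ThreeFour

namespace Scan

theorem two_eq {n : ℕ} (h0 : n ≠ 0) (h : n < 2 ^ 200) : two n = 2 ^ n.factorization 2 := by
  obtain ⟨i, -, hi⟩ := (Nat.dvd_prime_pow Nat.prime_two).1 (Nat.gcd_dvd_right n (2 ^ 200))
  have h1 : i ≤ n.factorization 2 :=
    (Nat.prime_two.pow_dvd_iff_le_factorization h0).1 (hi ▸ Nat.gcd_dvd_left n (2 ^ 200))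
  have h2 : n.factorization 2 ≤ 200 := by
    have := (Nat.le_of_dvd (Nat.pos_of_ne_zero h0) (Nat.ordProj_dvd n 2)).trans h.le
    exact (Nat.pow_le_pow_iff_right (by norm_num)).1 this
  have h3 : 2 ^ n.factorization 2 ∣ two n := Nat.dvd_gcd (Nat.ordProj_dvd n 2) (pow_dvd_pow 2 h2)
  rw [two, hi] at h3 ⊢
  exact congrArg _ (le_antisymm h1 ((Nat.pow_dvd_pow_iff_le_right (by norm_num)).1 h3))

theorem od_eq {n : ℕ} (h0 : n ≠ 0) (h : n < 2 ^ 200) : od n = oddPart n := by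
  rw [od, two_eq h0 h, oddPart]

theorem isPr_prime {p : ℕ} (h : isPr p = true) : p.Prime := by
  simp only [isPr, Bool.and_eq_true, decide_eq_true_eq, List.all_eq_true, List.mem_range, Bool.or_eq_true,
    bne_iff_ne] at h
  refine Nat.prime_def_lt'.2 ⟨h.1, fun m hm hmp hd => ?_⟩
  rcases h.2 m hmp with e | e
  · omega
  · exact e (Nat.mod_eq_zero_of_dvd hd)

theorem factorization_eq_one {n p : ℕ} (hp : p.Prime) (hn : n ≠ 0) (h1 : p ∣ n) (h2 : ¬ p * p ∣ n) :
    n.factorization p = 1 := by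
  refine le_antisymm ?_ (hp.factorization_pos_of_dvd hn h1)
  by_contra hh
  push_neg at hh
  exact h2 (pow_two p ▸ (pow_dvd_pow p hh).trans (Nat.ordProj_dvd n p))

theorem separated_of_sepB {g F p q : ℕ} (hp : p.Prime) (hq : q.Prime) (hg : g ≠ 0) (hF : F ≠ 0)
    (hpg : p ∣ g) (hqg : q ∣ g) (h : sepB g F p q = true) : Separated g F p q := by
  simp only [sepB, Bool.and_eq_true, beq_iff_eq, bne_iff_ne, ne_eq] at h
  obtain ⟨⟨⟨⟨⟨h1, h2⟩, h3⟩, h4⟩, h5⟩, h6⟩ := h
  have d1 := Nat.dvd_of_mod_eq_zero h1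
  have d2 := Nat.dvd_of_mod_eq_zero h2
  refine ⟨d1, d2, ?_, ?_⟩
  · rw [factorization_eq_one hp hg hpg fun d => h3 (Nat.mod_eq_zero_of_dvd d),
      factorization_eq_one hp hF d1 fun d => h5 (Nat.mod_eq_zero_of_dvd d)]
  · rw [factorization_eq_one hq hg hqg fun d => h4 (Nat.mod_eq_zero_of_dvd d),
      factorization_eq_one hq (Nat.succ_ne_zero F) d2 fun d => h6 (Nat.mod_eq_zero_of_dvd d)]

section Data

variable {g v k b F : ℕ}

theorem shape_bounds (H : Data g v k b F) : (v = 2 ∨ v = 4) ∧ (k = 1 ∨ k = 2) := by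
  rcases H.shape with ⟨h1, h2⟩ | ⟨h1, h2⟩ <;> omega

theorem base_eq (H : Data g v k b F) : k * k * g = 3 * 4 ^ b * F * (F + 1) * v := by
  have h := H.card_eq
  have h4 : (4 : ℕ) ^ b = 2 ^ b * 2 ^ b := by rw [show (4 : ℕ) = 2 * 2 from rfl, mul_pow]
  refine Nat.eq_of_mul_eq_mul_left (show 0 < 3 by norm_num) ?_
  rw [h4]
  linear_combination h

theorem gOf_eq (H : Data g v k b F) : gOf v k b F = g := by
  obtain ⟨-, hk⟩ := shape_bounds H
  rw [gOf, ← base_eq H, Nat.mul_div_cancel_left _ (by rcases hk with e | e <;> rw [e] <;> norm_num)]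

theorem g_pos (H : Data g v k b F) : 0 < g := by
  obtain ⟨hv, -⟩ := shape_bounds H
  by_contra h0
  have h := base_eq H
  rw [Nat.eq_zero_of_not_pos h0, mul_zero] at h
  have h7 := H.ge
  have : 0 < 3 * 4 ^ b * F * (F + 1) * v :=
    Nat.mul_pos (Nat.mul_pos (Nat.mul_pos (Nat.mul_pos (by norm_num) (pow_pos (by norm_num) b)) (by omega))
      (by omega)) (by omega)
  omega

theorem two_part (H : Data g v k b F) :
    k * k * 2 ^ g.factorization 2 = 4 ^ b * 2 ^ (F * (F + 1)).factorization 2 * v := by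
  obtain ⟨hv, hk⟩ := shape_bounds H
  have hF : F * (F + 1) ≠ 0 := by have := H.ge; positivity
  obtain ⟨i, hi⟩ : ∃ i, k * k = 2 ^ i := by
    rcases hk with e | e <;> subst e
    · exact ⟨0, rfl⟩
    · exact ⟨2, rfl⟩
  obtain ⟨j, hj⟩ : ∃ j, v = 2 ^ j := by
    rcases hv with e | e <;> subst e
    · exact ⟨1, rfl⟩
    · exact ⟨2, rfl⟩
  have h4 : (4 : ℕ) ^ b = 2 ^ (2 * b) := by rw [pow_mul]; norm_num
  have h := congrArg (fun n : ℕ => n.factorization 2) (base_eq H)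
  rw [hi, hj, h4, mul_assoc (3 * 2 ^ (2 * b)) F (F + 1)] at h
  simp only [Nat.factorization_mul (pow_ne_zero i two_ne_zero) (g_pos H).ne',
    Nat.factorization_mul (mul_ne_zero (mul_ne_zero (three_ne_zero : (3 : ℕ) ≠ 0) (pow_ne_zero (2 * b) two_ne_zero)) hF)
      (pow_ne_zero j two_ne_zero),
    Nat.factorization_mul (mul_ne_zero (three_ne_zero : (3 : ℕ) ≠ 0) (pow_ne_zero (2 * b) two_ne_zero)) hF,
    Nat.factorization_mul (three_ne_zero : (3 : ℕ) ≠ 0) (pow_ne_zero (2 * b) two_ne_zero),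
    Finsupp.add_apply, Nat.prime_two.factorization_pow, Finsupp.single_eq_same,
    Nat.factorization_eq_zero_of_not_dvd (n := 3) (p := 2) (by norm_num), zero_add] at h
  rw [hi, hj, h4, ← pow_add, ← pow_add, ← pow_add, h]

theorem two_le_part (H : Data g v k b F) : 2 ≤ 2 ^ (F * (F + 1)).factorization 2 := by
  have hF : F * (F + 1) ≠ 0 := by have := H.ge; positivity
  exact Nat.le_self_pow (Nat.prime_two.factorization_pos_of_dvd hF (Nat.two_dvd_mul_add_one F)).ne' 2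

theorem part_le (H : Data g v k b F) : 2 ^ (F * (F + 1)).factorization 2 ≤ F + 1 := by
  have h7 := H.ge
  rw [Nat.factorization_mul (by omega) (by omega), Finsupp.add_apply, pow_add]
  have h1 := Nat.ordProj_dvd F 2
  have h2 := Nat.ordProj_dvd (F + 1) 2
  rcases Nat.even_or_odd F with hF | hF
  · rw [Nat.factorization_eq_zero_of_not_dvd (n := F + 1) (p := 2) (by rintro ⟨c, hc⟩; obtain ⟨d, hd⟩ := hF; omega),
      pow_zero, mul_one]
    exact (Nat.le_of_dvd (by omega) h1).trans (by omega)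
  · rw [Nat.factorization_eq_zero_of_not_dvd (n := F) (p := 2) (by rintro ⟨c, hc⟩; obtain ⟨d, hd⟩ := hF; omega),
      pow_zero, one_mul]
    exact Nat.le_of_dvd (by omega) h2

theorem central_bound (H : Data g v k b F) : k * k * 2 ^ g.factorization 2 < 2 ^ (b + 1) * v * F := by
  obtain ⟨μ, c, L, hkμ, hμ, -, hS, -, hcd⟩ := H.central
  obtain ⟨hv, hk⟩ := shape_bounds H
  have hg := g_pos H
  have hc : 0 < c := Nat.pos_of_dvd_of_pos hcd.dvd hg
  have h1 : k * μ * c = 2 ^ b * v * L := Nat.eq_of_mul_eq_mul_left (show 0 < 3 by norm_num) (by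
    linear_combination hcd.eqn)
  calc k * k * 2 ^ g.factorization 2 ≤ k * μ * c :=
        Nat.mul_le_mul (Nat.mul_le_mul le_rfl (Nat.le_of_dvd hμ hkμ)) (Nat.le_of_dvd hc hS)
    _ = 2 ^ b * v * L := h1
    _ < 2 ^ b * v * (2 * F) := Nat.mul_lt_mul_of_pos_left hcd.lt (by
        rcases hv with e | e <;> rw [e] <;> positivity)
    _ = 2 ^ (b + 1) * v * F := by ring

theorem pureBound_le (g v : ℕ) : pureBound g v ≤ (2 * v + 1) * 2 ^ g.factorization 2 := by
  have hb : (v + 1) * 2 ^ g.factorization 2 / 2 ≤ (2 * v + 1) * 2 ^ g.factorization 2 :=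
    (Nat.div_le_self _ _).trans (Nat.mul_le_mul_right _ (by omega))
  unfold pureBound
  simp only []
  split
  · refine max_le hb ?_
    have := Nat.div_le_self (2 ^ g.factorization 2) 2
    rw [add_mul, one_mul]
    omega
  · exact hb

theorem bound_F (H : Data g v k b F) :
    (if v = 2 then 13 else 7) * 3 * F * v ≤ 16 * 9 * v ^ 2 * (k * k * (4 * v + 1) + (2 * v + 1) * v) := by
  have hc := H.count
  have h1 := pureBound_le g v
  have h2 : oddPart F + oddPart (F + 1) ≤ 2 * F + 1 := by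
    have a1 := Nat.div_le_self F (2 ^ F.factorization 2)
    have a2 := Nat.div_le_self (F + 1) (2 ^ (F + 1).factorization 2)
    simp only [oddPart]
    omega
  have hP := part_le H
  have hT := two_part H
  have hb := base_eq H
  have hpos : 1 ≤ 4 ^ b := Nat.one_le_pow _ _ (by norm_num)
  set num := (if v = 2 then 13 else 7)
  set P := 2 ^ (F * (F + 1)).factorization 2
  set S := 2 ^ g.factorization 2
  set o := oddPart F + oddPart (F + 1)
  refine Nat.le_of_mul_le_mul_left (c := 4 ^ b * (F + 1)) ?_ (Nat.mul_pos (Nat.pow_pos (by norm_num : 0 < 4)) (Nat.succ_pos F))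
  calc 4 ^ b * (F + 1) * (num * 3 * F * v) = k * k * (num * g) := by
        rw [mul_left_comm (k * k), hb]; ring
    _ ≤ k * k * (16 * 9 * v ^ 2 * (1 + 2 * v * o + pureBound g v)) := Nat.mul_le_mul le_rfl hc
    _ ≤ k * k * (16 * 9 * v ^ 2 * (1 + 2 * v * (2 * F + 1) + (2 * v + 1) * S)) := by gcongr
    _ = 16 * 9 * v ^ 2 * (k * k * (1 + 2 * v * (2 * F + 1)) + (2 * v + 1) * (k * k * S)) := by ring
    _ ≤ 16 * 9 * v ^ 2 * (4 ^ b * (k * k * ((4 * v + 1) * (F + 1))) + (2 * v + 1) * (4 ^ b * (F + 1) * v)) := by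
        rw [hT]
        refine Nat.mul_le_mul le_rfl (Nat.add_le_add ?_
          (Nat.mul_le_mul le_rfl (Nat.mul_le_mul (Nat.mul_le_mul le_rfl hP) le_rfl)))
        calc k * k * (1 + 2 * v * (2 * F + 1)) ≤ 1 * (k * k * ((4 * v + 1) * (F + 1))) := by
              rw [one_mul]
              exact Nat.mul_le_mul le_rfl (by ring_nf; omega)
          _ ≤ 4 ^ b * (k * k * ((4 * v + 1) * (F + 1))) := Nat.mul_le_mul hpos le_rfl
    _ = 4 ^ b * (F + 1) * (16 * 9 * v ^ 2 * (k * k * (4 * v + 1) + (2 * v + 1) * v)) := by ring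

theorem F_le (H : Data g v k b F) :
    v = 2 ∧ k = 2 ∧ F ≤ 340 ∨ v = 2 ∧ k = 1 ∧ F ≤ 141 ∨ v = 4 ∧ k = 1 ∧ F ≤ 1454 := by
  have h := bound_F H
  rcases H.shape with ⟨e, e' | e'⟩ | ⟨e, e'⟩ <;> subst e <;> subst e' <;> norm_num at h ⊢ <;> omega

theorem b_le (H : Data g v k b F) : b ≤ 10 := by
  have h1 := central_bound H
  rw [two_part H, show (4 : ℕ) ^ b = 2 ^ b * 2 ^ b by rw [show (4 : ℕ) = 2 * 2 from rfl, mul_pow]] at h1
  have hP := two_le_part H
  obtain ⟨hv, -⟩ := shape_bounds H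
  have h2 : 2 ^ b * 2 ^ b * 2 * v ≤ 2 ^ b * 2 ^ b * 2 ^ (F * (F + 1)).factorization 2 * v := by gcongr
  have h3 : 2 ^ b * (2 ^ b * 2 * v) < 2 ^ b * (2 * v * F) := by rw [pow_succ] at h1; linarith
  have h4 := Nat.lt_of_mul_lt_mul_left h3
  have h5 : 2 ^ b < F := Nat.lt_of_mul_lt_mul_left (a := 2 * v) (by linarith)
  have h6 : F ≤ 1454 := by rcases F_le H with h | h | h <;> omega
  by_contra hb
  push_neg at hb
  have : 2 ^ 11 ≤ 2 ^ b := Nat.pow_le_pow_right (by norm_num) hb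
  omega

theorem g_lt (H : Data g v k b F) : g < 2 ^ 200 := by
  obtain ⟨hv, hk⟩ := shape_bounds H
  have hb := b_le H
  have hF : F ≤ 1454 := by rcases F_le H with h | h | h <;> omega
  have hv4 : v ≤ 4 := by omega
  calc g ≤ k * k * g := Nat.le_mul_of_pos_left g (by rcases hk with e | e <;> rw [e] <;> norm_num)
    _ = 3 * 4 ^ b * F * (F + 1) * v := base_eq H
    _ ≤ 3 * 4 ^ 10 * 1454 * 1455 * 4 := by gcongr <;> omega
    _ < 2 ^ 200 := by norm_num

theorem two_gOf (H : Data g v k b F) : two (gOf v k b F) = 2 ^ g.factorization 2 := by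
  rw [gOf_eq H, two_eq (g_pos H).ne' (g_lt H)]

theorem coarse_eq (H : Data g v k b F) : coarse v k b F = true := by
  have hF : F + 1 < 2 ^ 200 := by
    have : F ≤ 1454 := by rcases F_le H with h | h | h <;> omega
    omega
  have h7 := H.ge
  simp only [coarse, Bool.and_eq_true, bne_iff_ne, beq_iff_eq, decide_eq_true_eq]
  refine ⟨⟨⟨⟨H.mod_five.1, H.mod_five.2⟩, ?_⟩, ?_⟩, ?_⟩
  · rw [gOf_eq H]; exact Nat.mod_eq_zero_of_dvd H.even
  · rw [two_gOf H]; exact central_bound H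
  · rw [two_gOf H, gOf_eq H, od_eq (by omega) (by omega), od_eq (by omega) hF]
    exact H.count

theorem uP_of (H : Data g v k b F) {c j : ℕ} (hc : c = 6 * (v * 4 ^ j)) (hd : c ∣ g) : uP v c = true := by
  have h := (Nat.le_of_dvd (g_pos H) hd).trans_lt (g_lt H)
  have h1 : 4 ^ j ≤ c := by
    obtain ⟨hv, -⟩ := shape_bounds H
    rw [hc, ← mul_assoc]
    exact Nat.le_mul_of_pos_left _ (by omega)
  have h2 : 2 ^ (2 * j) < 2 ^ 200 := by rw [pow_mul]; exact h1.trans_lt h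
  have h3 := (Nat.pow_lt_pow_iff_right (by norm_num)).1 h2
  exact List.any_eq_true.2 ⟨j, List.mem_range.2 (by omega), by rw [beq_iff_eq]; exact hc⟩

theorem anyCls_of (H : Data g v k b F) {μ c L : ℕ} (hkμ : k ∣ μ) (hμ : 0 < μ) (hμk : μ = k ∨ v = 4 ∧ μ = 2)
    (hc : ClassData g (3 * 2 ^ b) v k F μ c L) (P : ℕ → ℕ → Bool) (hP : P μ c = true) :
    anyCls v k b F P = true := by
  obtain ⟨i, rfl⟩ := hc.four
  have hm : μ ∈ mus v k := by
    rcases H.shape with ⟨e, e' | e'⟩ | ⟨e, e'⟩ <;> subst e <;> subst e' <;>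
      simp only [mus] <;> rcases hμk with e | ⟨e, e'⟩ <;> simp_all
  have hk : 0 < k := Nat.pos_of_dvd_of_pos hkμ hμ
  have h1 : k * μ * c = 2 ^ b * v * (4 * i) := Nat.eq_of_mul_eq_mul_left (show 0 < 3 by norm_num) (by
    linear_combination hc.eqn)
  have h2 : 2 ^ b * v * (4 * i) / (k * μ) = c := by
    rw [← h1, Nat.mul_div_cancel_left _ (Nat.mul_pos hk hμ)]
  refine List.any_eq_true.2 ⟨μ, hm, List.any_eq_true.2 ⟨i, List.mem_range.2 ?_, ?_⟩⟩
  · have := hc.lt; omega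
  simp only [Bool.and_eq_true, beq_iff_eq]
  refine ⟨⟨?_, ?_⟩, ?_⟩
  · rw [← h1]; exact Nat.mul_mod_right _ _
  · rw [h2]; exact hP
  · rw [h2, gOf_eq H]
    simp only [okClass, Bool.and_eq_true, beq_iff_eq, decide_eq_true_eq]
    refine ⟨⟨⟨Nat.mod_eq_zero_of_dvd hc.dvd, ?_⟩, Int.emod_eq_zero_of_dvd hc.dvd_F⟩,
      Int.emod_eq_zero_of_dvd hc.dvd_F1⟩
    rw [← pow_two, ← pow_two]
    exact hc.sq_le

theorem cand_eq (H : Data g v k b F) : cand v k b F = true := by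
  obtain ⟨μ, c, L, j, a1, a2, a3, hc, hcd⟩ := H.u_class
  obtain ⟨μ', c', L', b1, b2, b3, hS, hdis, hcd'⟩ := H.central
  simp only [cand, Bool.and_eq_true]
  refine ⟨⟨coarse_eq H, anyCls_of H a1 a2 a3 hcd _ (uP_of H hc hcd.dvd)⟩, anyCls_of H b1 b2 b3 hcd' _ ?_⟩
  simp only [zP, Bool.and_eq_true, Bool.or_eq_true, beq_iff_eq, bne_iff_ne]
  refine ⟨by rw [two_gOf H]; exact Nat.mod_eq_zero_of_dvd hS, ?_⟩
  rcases hdis with ⟨j', hj'⟩ | ⟨h3, h1⟩
  · exact Or.inl (uP_of H hj' hcd'.dvd)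
  · exact Or.inr ⟨fun e => h3 (Nat.dvd_of_mod_eq_zero e), h1⟩

theorem mem_remain (H : Data g v k b F) : (v, k, b, F) ∈ remain := by
  obtain ⟨i, hi⟩ : ∃ i, F = 7 + 3 * i := ⟨(F - 7) / 3, by have := H.ge; have := H.mod_three; omega⟩
  have hb := b_le H
  have hc := cand_eq H
  have key : ∀ n, ((List.range 11).all (line v k n)) = true → i < n → (v, k, b, F) ∈ remain := by
    intro n hn hin
    have h1 := List.all_eq_true.1 hn b (List.mem_range.2 (by omega))
    have h2 := List.all_eq_true.1 h1 i (List.mem_range.2 hin)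
    rw [← hi, hc] at h2
    simpa using h2
  rcases F_le H with ⟨e, e', h⟩ | ⟨e, e', h⟩ | ⟨e, e', h⟩ <;> subst e <;> subst e'
  · exact key 112 search_two_two (by omega)
  · exact key 46 search_two_one (by omega)
  · exact key 484 search_four (by omega)

theorem not_dead (H : Data g v k b F) {p q a : ℕ} (hd : dead (v, k, b, F, p, q, a) = true) : False := by
  simp only [dead, Bool.and_eq_true, beq_iff_eq, bne_iff_ne, ne_eq, decide_eq_true_eq, Bool.not_eq_true',
    Bool.or_eq_true, List.all_eq_true, List.mem_range] at hd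
  obtain ⟨⟨⟨⟨⟨⟨⟨he, hp⟩, hq⟩, h7⟩, h5⟩, hpp⟩, hev⟩, hall⟩ := hd
  rw [gOf_eq H] at he hpp hall
  have hp := isPr_prime hp
  have hq := isPr_prime hq
  have hpg : p ∣ g := he ▸ dvd_mul_right p _
  have hqg : q ∣ g := he ▸ (dvd_mul_right q _).mul_left p
  have hp2 : ¬ p ^ 2 ∣ g := fun d => hpp (Nat.mod_eq_zero_of_dvd (pow_two p ▸ d))
  obtain ⟨kk, D, hdvd, hn, hk2, hkp, h12, h3, hev2, hsep⟩ := H.crit p hp h7 hpg hp2
  have hD2 : ¬ 2 ∣ D := fun h => by
    obtain ⟨μ, c, L, a1, a2, a3, h2p, hc3, hμ1, hcd⟩ := hev2 h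
    have := anyCls_of H a1 a2 a3 hcd (eP p) (by
      simp only [eP, Bool.and_eq_true, beq_iff_eq, bne_iff_ne]
      exact ⟨⟨Nat.mod_eq_zero_of_dvd h2p, fun e => hc3 (Nat.dvd_of_mod_eq_zero e)⟩, hμ1⟩)
    rw [this] at hev
    exact Bool.noConfusion hev
  have hcop : Nat.Coprime D (2 ^ a * 3) :=
    ((Nat.prime_two.coprime_iff_not_dvd.2 hD2).symm.pow_right a).mul_right
      (Nat.prime_three.coprime_iff_not_dvd.2 h3).symm
  have hDq : D ∣ q := by
    refine hcop.dvd_of_dvd_mul_right (Nat.dvd_of_mul_dvd_mul_left hp.pos ?_)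
    rw [← he]
    exact (Dvd.intro kk (by ring)).trans hdvd
  have hkk : kk < p := by
    have := Nat.le_of_dvd (by omega) hkp
    omega
  have hnorm : normB g p kk D = true := by
    simp only [normB, Bool.and_eq_true, beq_iff_eq, bne_iff_ne, decide_eq_true_eq]
    exact ⟨⟨⟨⟨hk2, Nat.mod_eq_zero_of_dvd hkp⟩, fun e => h12 (Nat.dvd_of_mod_eq_zero e)⟩,
      Nat.mod_eq_zero_of_dvd hdvd⟩, hn⟩
  obtain ⟨hh1, hh2⟩ := hall kk hkk
  rcases (Nat.dvd_prime hq).1 hDq with e | e <;> subst e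
  · rw [hnorm] at hh1; exact Bool.noConfusion hh1
  · rcases hh2 with hh2 | hh2
    · rw [hnorm] at hh2; exact Bool.noConfusion hh2
    · exact (hsep D hq dvd_rfl).1
        (separated_of_sepB hp hq (g_pos H).ne' (by have := H.ge; omega) hpg hqg hh2)

end Data

end Scan

theorem scanStmt : ScanStmt := by
  intro g v k b F H
  have hm := Scan.mem_remain H
  rcases List.mem_cons.1 hm with e | e
  · simp only [Prod.mk.injEq] at e
    obtain ⟨rfl, rfl, rfl, rfl⟩ := e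
    exact ⟨rfl, rfl, rfl, rfl, by rw [← Scan.gOf_eq H]; rfl⟩
  · obtain ⟨⟨v', k', b', F', p, q, a⟩, hr, hr'⟩ := List.mem_map.1 e
    simp only [Prod.mk.injEq] at hr'
    obtain ⟨rfl, rfl, rfl, rfl⟩ := hr'
    exact (Scan.not_dead H (List.all_eq_true.1 Scan.dead_rows _ hr)).elim

end Cfsg.Lib.ThreeFour
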