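import Cfsg.Agent.ThreeFour.Arith.LocalDefs
import Cfsg.Agent.ThreeFour.Arith.Scan
import Cfsg.Agent.ThreeFour.Arith.LocalTable

/-!
The searches with a centraliser order divisible by seven or by a high power of two.
-/

set_option autoImplicit false

namespace Cfsg.Lib.ThreeFour

namespace LocalScan

open Scan (okClass normB sepB two uP)

theorem okClass_of {g s v k F μ c L : ℕ} (h : ClassData g s v k F μ c L) : okClass g F c L = true := by
  simp only [okClass, Bool.and_eq_true, beq_iff_eq, decide_eq_true_eq]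
  refine ⟨⟨⟨Nat.mod_eq_zero_of_dvd h.dvd, ?_⟩, Int.emod_eq_zero_of_dvd h.dvd_F⟩,
    Int.emod_eq_zero_of_dvd h.dvd_F1⟩
  rw [← pow_two, ← pow_two]
  exact h.sq_le

theorem mem_clList {g v k s F μ c : ℕ} (hk : 0 < k) (h : Cls g v k s F μ c) : c ∈ clList g v k s F μ := by
  obtain ⟨hμ, L, hL⟩ := h
  obtain ⟨i, rfl⟩ := hL.four
  have hd : 0 < 3 * k * μ := by positivity
  have h2 : s * v * (4 * i) / (3 * k * μ) = c := by
    rw [← hL.eqn, Nat.mul_div_cancel_left _ hd]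
  refine List.mem_map.2 ⟨i, List.mem_filter.2 ⟨List.mem_range.2 (by have := hL.lt; omega), ?_⟩, h2⟩
  simp only [Bool.and_eq_true, beq_iff_eq]
  refine ⟨?_, by rw [h2]; exact okClass_of hL⟩
  rw [← hL.eqn]
  exact Nat.mul_mod_right _ _

theorem dvd_rest {g p D : ℕ} (hp : p.Prime) (hp2 : p ≠ 2) (hpg : p ∣ g) (h3g : 3 ∣ g) (hp3 : p ≠ 3)
    (hg : g ≠ 0) (hlt : g < 2 ^ 200) (hD : p * D ∣ g) (hD2 : ¬ 2 ∣ D) (hD3 : ¬ 3 ∣ D) :
    D ∣ g / p / two g / 3 := by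
  rw [Scan.two_eq hg hlt]
  have c2 : Nat.Coprime (2 ^ g.factorization 2) p := ((Nat.coprime_primes Nat.prime_two hp).2 hp2.symm).pow_left _
  have c3 : Nat.Coprime 3 p := (Nat.coprime_primes Nat.prime_three hp).2 hp3.symm
  have c23 : Nat.Coprime 3 (2 ^ g.factorization 2) := Nat.Coprime.pow_right _ (by norm_num)
  obtain ⟨t, ht⟩ := hpg
  have hS : 2 ^ g.factorization 2 ∣ t := c2.dvd_of_dvd_mul_left (ht ▸ Nat.ordProj_dvd g 2)
  have h3 : 3 ∣ t := c3.dvd_of_dvd_mul_left (ht ▸ h3g)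
  obtain ⟨r, hr⟩ : 2 ^ g.factorization 2 * 3 ∣ t := (Nat.Coprime.mul_dvd_of_dvd_of_dvd c23.symm hS h3)
  have hDt : D ∣ t := Nat.dvd_of_mul_dvd_mul_left hp.pos (ht ▸ hD)
  have hcop : Nat.Coprime D (2 ^ g.factorization 2 * 3) :=
    ((Nat.prime_two.coprime_iff_not_dvd.2 hD2).symm.pow_right _).mul_right
      (Nat.prime_three.coprime_iff_not_dvd.2 hD3).symm
  have hDr : D ∣ r := hcop.dvd_of_dvd_mul_left (hr ▸ hDt)
  have e : g / p / 2 ^ g.factorization 2 / 3 = r := by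
    have hpos : 0 < p * (2 ^ g.factorization 2 * 3) := Nat.mul_pos hp.pos (by positivity)
    rw [Nat.div_div_eq_div_mul, Nat.div_div_eq_div_mul]
    refine Nat.div_eq_of_eq_mul_left hpos ?_
    calc g = p * t := ht
      _ = r * (p * (2 ^ g.factorization 2 * 3)) := by rw [hr]; ring
  rw [e]
  exact hDr

theorem killers_prime : ∀ p ∈ killers, p.Prime ∧ 7 ≤ p := by
  intro p hp
  fin_cases hp <;> norm_num

theorem seconds_prime : ∀ p ∈ seconds, p.Prime := by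
  intro p hp
  fin_cases hp <;> norm_num

theorem not_deadC {g F : ℕ} {cs : List ℕ} (hg : g ≠ 0) (hlt : g < 2 ^ 200) (hF : F ≠ 0)
    (h : Checks g F cs) : deadC g F cs = false := by
  obtain ⟨⟨a, ha, hda⟩, hcrit⟩ := h
  rw [← Bool.not_eq_true]
  intro hd
  simp only [deadC, Bool.or_eq_true, Bool.not_eq_true', List.any_eq_true, List.all_eq_true, Bool.and_eq_true,
    beq_iff_eq, bne_iff_ne, ne_eq, List.mem_filter, List.mem_range] at hd
  rcases hd with hd | ⟨p, hpl, ⟨⟨⟨hpg, hp2⟩, h3⟩, hev⟩, hall⟩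
  · have : anyB (two g) cs = true := List.any_eq_true.2 ⟨a, ha, by
      rw [beq_iff_eq, Scan.two_eq hg hlt]; exact Nat.mod_eq_zero_of_dvd hda⟩
    rw [this] at hd
    exact Bool.noConfusion hd
  obtain ⟨hp, h7⟩ := killers_prime p hpl
  have hpg' := Nat.dvd_of_mod_eq_zero hpg
  have hp2' : ¬ p ^ 2 ∣ g := fun d => hp2 (Nat.mod_eq_zero_of_dvd (pow_two p ▸ d))
  obtain ⟨kk, D, hdvd, hn, hk2, hkp, h12, hD3, hev2, hsep⟩ := hcrit p hp h7 hpg' hp2'
  have hD2 : ¬ 2 ∣ D := fun h2 => by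
    obtain ⟨b, hb, hdb⟩ := hev2 h2
    have : anyB (2 * p) cs = true :=
      List.any_eq_true.2 ⟨b, hb, by rw [beq_iff_eq]; exact Nat.mod_eq_zero_of_dvd hdb⟩
    rw [this] at hev
    exact Bool.noConfusion hev
  have hDr := dvd_rest hp (by omega) hpg' (Nat.dvd_of_mod_eq_zero h3) (by omega) hg hlt
    ((Dvd.intro kk (by ring)).trans hdvd) hD2 hD3
  have hrpos : 0 < g / p / two g / 3 := by
    rcases Nat.eq_zero_or_pos (g / p / two g / 3) with e | e
    · exfalso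
      have hS := Scan.two_eq hg hlt
      have hd' : p * two g * 3 ∣ g := by
        rw [hS]
        exact Nat.Coprime.mul_dvd_of_dvd_of_dvd
          (Nat.Coprime.mul_left ((Nat.coprime_primes hp Nat.prime_three).2 (by omega))
            (Nat.Coprime.pow_left _ (by norm_num)))
          (Nat.Coprime.mul_dvd_of_dvd_of_dvd (((Nat.coprime_primes hp Nat.prime_two).2 (by omega)).pow_right _)
            hpg' (Nat.ordProj_dvd g 2))
          (Nat.dvd_of_mod_eq_zero h3)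
      rw [Nat.div_div_eq_div_mul, Nat.div_div_eq_div_mul, ← mul_assoc] at e
      exact absurd (Nat.eq_zero_of_dvd_of_div_eq_zero hd' e) hg
    · exact e
  have hkk : kk < p := by
    have := Nat.le_of_dvd (by omega) hkp
    omega
  have hnorm : normB g p kk D = true := by
    simp only [normB, Bool.and_eq_true, beq_iff_eq, bne_iff_ne, decide_eq_true_eq]
    exact ⟨⟨⟨⟨hk2, Nat.mod_eq_zero_of_dvd hkp⟩, fun e => h12 (Nat.dvd_of_mod_eq_zero e)⟩,
      Nat.mod_eq_zero_of_dvd hdvd⟩, hn⟩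
  rcases hall D ⟨by have := Nat.le_of_dvd hrpos hDr; omega, Nat.mod_eq_zero_of_dvd hDr⟩ kk hkk with e | e
  · rw [hnorm] at e; exact Bool.noConfusion e
  obtain ⟨q, hq, ⟨hqD, hqg⟩, hs⟩ := e
  have hqp := seconds_prime q hq
  have hqg' := Nat.dvd_of_mod_eq_zero hqg
  obtain ⟨s1, s2⟩ := hsep q hqp (Nat.dvd_of_mod_eq_zero hqD)
  rcases hs with hs | hs
  · exact s1 (Scan.separated_of_sepB hp hqp hg hF hpg' hqg' hs)
  · exact s2 (Scan.separated_of_sepB hqp hp hg hF hqg' hpg' hs)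

theorem size {g v k s F μ c : ℕ} (hk : k = 1 ∨ k = 2) (hv : v ≤ 4) (hv0 : 0 < v) (hμ : μ ≤ 4) (hc : c ≤ 10000)
    (hR : Row g v k s F) (h : Cls g v k s F μ c) :
    g ≠ 0 ∧ g < 2 ^ 200 ∧ F ≠ 0 ∧ s ≤ 240000 := by
  obtain ⟨hμ0, L, hL⟩ := h
  have h7 := hR.ge
  have hk2 : k ≤ 2 := by omega
  have hs : s ≤ 240000 := by
    have h1 : s * 1 ≤ s * (v * L) := Nat.mul_le_mul le_rfl (Nat.mul_pos hv0 hL.pos)
    have h2 : 3 * k * μ * c ≤ 3 * 2 * 4 * 10000 := by gcongr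
    rw [mul_one, ← mul_assoc, ← hL.eqn] at h1
    omega
  have hF : F ≤ 260000 := by
    have h1 : L ≤ 3 * k * μ * c := by
      rw [hL.eqn]
      refine Nat.le_mul_of_pos_left L (Nat.mul_pos ?_ hv0)
      exact Nat.pos_of_ne_zero fun e => hR.three.2 (e ▸ dvd_zero 9)
    have h2 : 3 * k * μ * c ≤ 3 * 2 * 4 * 10000 := by gcongr
    have h3 := hL.sq_le
    have h4 : ((F : ℤ) - L) ^ 2 ≤ 10000 := by
      have : (c : ℤ) ≤ 10000 := by exact_mod_cast hc
      nlinarith [sq_nonneg ((F : ℤ) - L + 1)]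
    have h5 : ((F : ℤ) - L) ≤ 10000 := by nlinarith [sq_nonneg ((F : ℤ) - L - 1)]
    omega
  have hg : g ≠ 0 := by have := hR.sq_lt; omega
  refine ⟨hg, ?_, by omega, hs⟩
  calc g ≤ 3 * k ^ 2 * g := Nat.le_mul_of_pos_left g (by rcases hk with e | e <;> rw [e] <;> norm_num)
    _ = s ^ 2 * F * (F + 1) * v := hR.card_eq
    _ ≤ 240000 ^ 2 * 260000 * 260001 * 4 := by gcongr; omega
    _ < 2 ^ 200 := by norm_num

theorem allRows_elim {g v k s F μ c : ℕ} {P : ℕ → ℕ → ℕ → Bool} (hk : k = 1 ∨ k = 2) (hv0 : 0 < v)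
    (hc : c ≤ 6144) (hR : Row g v k s F) (h : Cls g v k s F μ c) (hall : allRows v k c μ P = true) :
    P g s F = true := by
  obtain ⟨hμ0, L, hL⟩ := h
  obtain ⟨i, rfl⟩ := hL.four
  obtain ⟨h3, h9⟩ := hR.three
  have hi : 0 < v * (4 * i) := Nat.mul_pos hv0 hL.pos
  have hN : 3 * k * μ * c = v * (4 * i) * s := by rw [hL.eqn]; ring
  have hs : 3 * k * μ * c / (v * (4 * i)) = s := by rw [hN, Nat.mul_div_cancel_left _ hi]
  have hs1 : 1 ≤ s := Nat.pos_of_ne_zero fun e => h9 (e ▸ dvd_zero 9)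
  simp only [allRows, List.all_eq_true, List.mem_range] at hall
  have hin : i < 3 * k * μ * c / (4 * v) + 1 := by
    refine Nat.lt_succ_of_le ((Nat.le_div_iff_mul_le (by omega)).2 ?_)
    rw [hN]
    calc i * (4 * v) = v * (4 * i) * 1 := by ring
      _ ≤ v * (4 * i) * s := Nat.mul_le_mul le_rfl hs1
  have h1 := hall i hin
  rw [Bool.or_eq_true, Bool.not_eq_true', List.all_eq_true] at h1
  rcases h1 with h1 | h1
  · have : (3 * k * μ * c % (v * (4 * i)) == 0 && 3 * k * μ * c / (v * (4 * i)) % 3 == 0 &&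
        3 * k * μ * c / (v * (4 * i)) % 9 != 0) = true := by
      simp only [Bool.and_eq_true, beq_iff_eq, bne_iff_ne, hs]
      exact ⟨⟨by rw [hN]; exact Nat.mul_mod_right _ _, Nat.mod_eq_zero_of_dvd h3⟩,
        fun e => h9 (Nat.dvd_of_mod_eq_zero e)⟩
    rw [this] at h1
    exact Bool.noConfusion h1
  have hsq := hL.sq_le
  have hc' : (c : ℤ) ≤ 6144 := by exact_mod_cast hc
  have hd2 : ((F : ℤ) - (4 * i : ℕ)) ^ 2 ≤ 6144 := by
    nlinarith [sq_nonneg ((F : ℤ) - (4 * i : ℕ) + 1)]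
  have hdu : (F : ℤ) - (4 * i : ℕ) ≤ 78 := by nlinarith
  have hdl : -78 ≤ (F : ℤ) - (4 * i : ℕ) := by nlinarith
  have h2 := h1 (F + 79 - 4 * i) (List.mem_range.2 (by omega))
  simp only [hs, show 4 * i + (F + 79 - 4 * i) - 79 = F by omega] at h2
  have hg : s * s * F * (F + 1) * v / (3 * k * k) = g := by
    have e := hR.card_eq
    rw [show s * s * F * (F + 1) * v = 3 * k * k * g by linear_combination -e]
    exact Nat.mul_div_cancel_left _ (by rcases hk with e | e <;> rw [e] <;> norm_num)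
  rw [hg] at h2
  rw [Bool.or_eq_true, Bool.not_eq_true'] at h2
  refine h2.resolve_left fun h2 => ?_
  have : (decide (7 ≤ F) && F % 3 == 1 && F % 5 != 0 && (F + 1) % 5 != 0 && decide (4 * i < 2 * F) &&
      g % 7 == 0 && g % 5 != 0 && decide (1 + F ^ 2 + (F + 1) ^ 2 ≤ g) && okClass g F c (4 * i)) = true := by
    simp only [Bool.and_eq_true, beq_iff_eq, bne_iff_ne, decide_eq_true_eq]
    exact ⟨⟨⟨⟨⟨⟨⟨⟨hR.ge, hR.mod_three⟩, hR.mod_five.1⟩, hR.mod_five.2⟩, hL.lt⟩, Nat.mod_eq_zero_of_dvd hR.seven⟩,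
      fun e => hR.five (Nat.dvd_of_mod_eq_zero e)⟩, hR.sq_lt⟩, okClass_of hL⟩
  rw [this] at h2
  exact Bool.noConfusion h2

theorem uP_of {v a g : ℕ} (hv : 0 < v) (h : SolvU v a) (hd : a ∣ g) (hg : g ≠ 0) (hlt : g < 2 ^ 200) :
    uP v a = true := by
  obtain ⟨j, hj⟩ := h
  have h1 : 4 ^ j ≤ a := by
    rw [hj, ← mul_assoc]
    exact Nat.le_mul_of_pos_left _ (by omega)
  have h2 : 2 ^ (2 * j) < 2 ^ 200 := by
    rw [pow_mul]
    exact (h1.trans (Nat.le_of_dvd (Nat.pos_of_ne_zero hg) hd)).trans_lt hlt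
  have h3 := (Nat.pow_lt_pow_iff_right (by norm_num)).1 h2
  exact List.any_eq_true.2 ⟨j, List.mem_range.2 (by omega), by rw [beq_iff_eq]; exact hj⟩

theorem four_shape {g s F c c₂ c₃ μ μ₂ μ₃ : ℕ} (hR : Row g 4 1 s F) (h : Cls g 4 1 s F μ c)
    (h2 : Cls g 4 1 s F μ₂ c₂) (h3 : Cls g 4 1 s F μ₃ c₃) (hμ : μ ≤ 4) (hc : c ≤ 6144)
    (hm : μ ∈ [1, 2]) (hm2 : μ₂ ∈ [1, 2]) (hm3 : μ₃ ∈ [1, 2]) (hp : pairOK c c₂ c₃ = true)
    (hl : μ + μ₂ + μ₃ = 4 ∧ Checks g F [c, c₂, c₃] ∨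
      μ = 1 ∧ μ₂ = 1 ∧ μ₃ = 1 ∧ ∃ z : ℕ, ¬ 3 ∣ z ∧ Cls g 4 1 s F 1 z ∧ Checks g F [c, c₂, c₃, z])
    (hall : [1, 2].all (fun μ => allRows 4 1 c μ (rowFour c μ)) = true) : c = 672 ∧ s = 6 ∧ F = 76 := by
  obtain ⟨hg, hlt, hF, -⟩ := size (Or.inl rfl) le_rfl (by norm_num) hμ (by omega) hR h
  have hP := allRows_elim (Or.inl rfl) (by norm_num) hc hR h (List.all_eq_true.1 hall μ hm)
  simp only [rowFour, Bool.or_eq_true, Bool.and_eq_true, beq_iff_eq] at hP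
  rcases hP with hd | ⟨⟨e1, e2⟩, e3⟩
  swap
  · exact ⟨e1, e2, e3⟩
  exfalso
  simp only [fourDead, List.all_eq_true, Bool.or_eq_true, Bool.not_eq_true', Bool.and_eq_true, bne_iff_ne,
    beq_iff_eq, ne_eq] at hd
  rcases hd μ₂ hm2 μ₃ hm3 c₂ (mem_clList Nat.one_pos h2) c₃ (mem_clList Nat.one_pos h3) with e | ⟨e4, e3⟩
  · rw [hp] at e; exact Bool.noConfusion e
  rcases hl with ⟨hs, hk⟩ | ⟨rfl, rfl, rfl, z, hz, hzc, hk⟩
  · rcases e4 with e4 | e4
    · exact e4 hs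
    · rw [not_deadC hg hlt hF hk] at e4; exact Bool.noConfusion e4
  · rcases e3 with e3 | e3
    · exact e3 rfl
    rcases e3 z (mem_clList Nat.one_pos hzc) with e | e
    · exact hz (Nat.dvd_of_mod_eq_zero e)
    · rw [not_deadC hg hlt hF hk] at e; exact Bool.noConfusion e

end LocalScan

theorem localFourStmt : LocalFourStmt := by
  intro g s F c c₂ c₃ hR hL hsh
  obtain ⟨μ, μ₂, μ₃, h, h2, h3, hl⟩ := hL
  have p1 := h.1
  have p2 := h2.1
  have p3 := h3.1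
  have hμ : μ ≤ 2 ∧ μ₂ ≤ 2 ∧ μ₃ ≤ 2 := by
    rcases hl with ⟨hs, -⟩ | ⟨e, e', e'', -⟩ <;> omega
  have mem : ∀ m : ℕ, 0 < m → m ≤ 2 → m ∈ [1, 2] := fun m a b => by
    obtain rfl | rfl : m = 1 ∨ m = 2 := by omega
    all_goals simp
  have key : c ≤ 6144 → LocalScan.pairOK c c₂ c₃ = true →
      [1, 2].all (fun μ => LocalScan.allRows 4 1 c μ (LocalScan.rowFour c μ)) = true →
      c = 672 ∧ s = 6 ∧ F = 76 := fun hc hp hall =>
    LocalScan.four_shape hR h h2 h3 (by omega) hc (mem μ p1 hμ.1) (mem μ₂ p2 hμ.2.1) (mem μ₃ p3 hμ.2.2) hp hl hall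
  have dv : ∀ {m a : ℕ}, Cls g 4 1 s F m a → a ∣ g := fun h' => by
    obtain ⟨-, L, hL⟩ := h'
    exact hL.dvd
  have hc : c ≤ 6144 := by rcases hsh with ⟨e, -⟩ | ⟨e, -⟩ | ⟨e | e | e, -⟩ <;> omega
  obtain ⟨hg, hlt, -, -⟩ := LocalScan.size (Or.inl rfl) le_rfl (by norm_num) (by omega : μ ≤ 4) (by omega) hR h
  have hu : ∀ {a : ℕ}, SolvU 4 a → a ∣ g → Scan.uP 4 a = true := fun h' hd =>
    LocalScan.uP_of (by norm_num) h' hd hg hlt
  rcases hsh with ⟨rfl, d2, d3⟩ | ⟨rfl, u2, u3⟩ | ⟨hcc, u2, u3⟩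
  · exact key hc (by simp [LocalScan.pairOK, Nat.mod_eq_zero_of_dvd d2, Nat.mod_eq_zero_of_dvd d3])
      LocalScan.search_672
  · refine key hc ?_ LocalScan.search_2688
    rcases u3 with e | e
    · subst e; simp [LocalScan.pairOK, hu u2 (dv h2)]
    · simp [LocalScan.pairOK, hu u2 (dv h2), hu e (dv h3)]
  · rcases hcc with rfl | rfl | rfl
    · exact key hc (by simp [LocalScan.pairOK, hu u2 (dv h2), hu u3 (dv h3)]) LocalScan.search_384
    · exact key hc (by simp [LocalScan.pairOK, hu u2 (dv h2), hu u3 (dv h3)]) LocalScan.search_1536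
    · exact key hc (by simp [LocalScan.pairOK, hu u2 (dv h2), hu u3 (dv h3)]) LocalScan.search_6144

theorem localTwoStmt : LocalTwoStmt := by
  intro g k s F c hR hc hl
  have hs := LocalScan.search_two
  simp only [Bool.and_eq_true] at hs
  obtain ⟨⟨s1, s2⟩, s3⟩ := hs
  have key : (k = 1 ∨ k = 2) → Cls g 2 k s F k c → c ≤ 6144 →
      LocalScan.allRows 2 k c k (LocalScan.rowTwo k c) = true → c = 336 ∧ s = 21 ∧ F = 31 := by
    intro hk hcls hcb hall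
    obtain ⟨hg, hlt, hF, -⟩ := LocalScan.size hk (by norm_num) (by norm_num) (by omega) (by omega) hR hcls
    have hP := LocalScan.allRows_elim hk (by norm_num) hcb hR hcls hall
    simp only [LocalScan.rowTwo, Bool.or_eq_true, Bool.and_eq_true, beq_iff_eq] at hP
    rcases hP with hd | ⟨⟨e1, e2⟩, e3⟩
    swap
    · exact ⟨e1, e2, e3⟩
    exfalso
    rcases hl with ⟨rfl, -, hk'⟩ | ⟨rfl, -, z, hz, hzc, hk'⟩
    · simp only [LocalScan.twoDead, beq_self_eq_true, if_true] at hd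
      rw [LocalScan.not_deadC hg hlt hF hk'] at hd
      exact Bool.noConfusion hd
    · simp only [LocalScan.twoDead, List.all_eq_true, Bool.or_eq_true, beq_iff_eq] at hd
      rw [if_neg (by norm_num)] at hd
      simp only [List.all_eq_true, Bool.or_eq_true, beq_iff_eq] at hd
      rcases hd z (LocalScan.mem_clList Nat.one_pos hzc) with e | e
      · exact hz (Nat.dvd_of_mod_eq_zero e)
      · rw [LocalScan.not_deadC hg hlt hF hk'] at e; exact Bool.noConfusion e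
  rcases hc with ⟨rfl, rfl⟩ | ⟨rfl, rfl | rfl⟩
  · rcases hl with ⟨h, -⟩ | ⟨-, h, -⟩
    · exact absurd h (by norm_num)
    · exact key (Or.inl rfl) h (by norm_num) s1
  · rcases hl with ⟨h, -⟩ | ⟨-, h, -⟩
    · exact absurd h (by norm_num)
    · exact key (Or.inl rfl) h (by norm_num) s2
  · rcases hl with ⟨-, h, -⟩ | ⟨h, -⟩
    · exact key (Or.inr rfl) h (by norm_num) s3
    · exact absurd h (by norm_num)

end Cfsg.Lib.ThreeFour
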