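import Cfsg.Agent.ThreeFour.Arith.Defs

/-!
The interface of the finite searches for a nonsolvable local subgroup: the group order is divisible by
seven and the centraliser of an element of `V` has one of a few orders.
-/

set_option autoImplicit false

namespace Cfsg.Lib.ThreeFour

/-- The global parameters. -/
structure Row (g v k s F : ℕ) : Prop where
  ge : 7 ≤ F
  mod_three : F % 3 = 1
  mod_five : F % 5 ≠ 0 ∧ (F + 1) % 5 ≠ 0
  three : 3 ∣ s ∧ ¬ 9 ∣ s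
  card_eq : 3 * k ^ 2 * g = s ^ 2 * F * (F + 1) * v
  sq_lt : 1 + F ^ 2 + (F + 1) ^ 2 ≤ g
  five : ¬ 5 ∣ g
  seven : 7 ∣ g

/-- `c` is the centraliser order of a class of involutions with the given `μ`. -/
def Cls (g v k s F μ c : ℕ) : Prop := 0 < μ ∧ ∃ L : ℕ, ClassData g s v k F μ c L

/-- The order of the centraliser of an element of `V` when that centraliser is solvable and of
characteristic two. -/
def SolvU (v a : ℕ) : Prop := ∃ j : ℕ, a = 6 * (v * 4 ^ j)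

/-- Some centraliser order in the list is divisible by `d`. -/
def AnyDvd (d : ℕ) (cs : List ℕ) : Prop := ∃ a ∈ cs, d ∣ a

/-- The list contains the order of the centraliser of a central involution, and every prime dividing the
order exactly once passes the criterion. -/
def Checks (g F : ℕ) (cs : List ℕ) : Prop :=
  AnyDvd (2 ^ g.factorization 2) cs ∧
    ∀ p : ℕ, p.Prime → 7 ≤ p → p ∣ g → ¬ p ^ 2 ∣ g → Crit g F p (AnyDvd (2 * p) cs)

/-- The possible lists for `v = 4`: three elements of `V` and possibly one further class. -/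
def FourLists (g s F c c₂ c₃ : ℕ) : Prop :=
  ∃ μ μ₂ μ₃ : ℕ, Cls g 4 1 s F μ c ∧ Cls g 4 1 s F μ₂ c₂ ∧ Cls g 4 1 s F μ₃ c₃ ∧
    (μ + μ₂ + μ₃ = 4 ∧ Checks g F [c, c₂, c₃] ∨
      μ = 1 ∧ μ₂ = 1 ∧ μ₃ = 1 ∧ ∃ z : ℕ, ¬ 3 ∣ z ∧ Cls g 4 1 s F 1 z ∧ Checks g F [c, c₂, c₃, z])

/-- The statement of the search for `v = 4`. -/
def LocalFourStmt : Prop :=
  ∀ g s F c c₂ c₃ : ℕ, Row g 4 1 s F → FourLists g s F c c₂ c₃ →
    (c = 672 ∧ 3 ∣ c₂ ∧ 3 ∣ c₃) ∨ (c = 2688 ∧ SolvU 4 c₂ ∧ (c₃ = 2688 ∨ SolvU 4 c₃)) ∨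
      ((c = 384 ∨ c = 1536 ∨ c = 6144) ∧ SolvU 4 c₂ ∧ SolvU 4 c₃) →
    c = 672 ∧ s = 6 ∧ F = 76

/-- The statement of the search for `v = 2`. -/
def LocalTwoStmt : Prop :=
  ∀ g k s F c : ℕ, Row g 2 k s F → (c = 336 ∧ k = 1 ∨ c = 192 ∧ (k = 1 ∨ k = 2)) →
    (k = 2 ∧ Cls g 2 2 s F 2 c ∧ Checks g F [c] ∨
      k = 1 ∧ Cls g 2 1 s F 1 c ∧ ∃ z : ℕ, ¬ 3 ∣ z ∧ Cls g 2 1 s F 1 z ∧ Checks g F [c, z]) →
    c = 336 ∧ s = 21 ∧ F = 31

end Cfsg.Lib.ThreeFour
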