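import Cfsg.Agent.ThreeFour.Arith.Defs
import Cfsg.Agent.ThreeFour.Basic

/-!
The normal form of the orders: the ratio `μ c / (F - h)` is the same for all classes of involutions.
-/

set_option autoImplicit false

namespace Cfsg.Lib.ThreeFour

open Subgroup

universe u

namespace Arith

variable {G : Type u} [Group G] {x τ : G} {V : Subgroup G}

theorem orderOf_tau_mul (H : Hyp x V) (ht : Tau x V τ) {w : G} (hw : w ∈ V) : orderOf (τ * w) = 2 := by
  haveI : Fact (Nat.Prime 2) := ⟨Nat.prime_two⟩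
  refine orderOf_eq_prime ?_ fun e => ?_
  · rw [pow_two, mul_assoc, ← mul_assoc w τ w, ← (ht.fix w hw).eq, mul_assoc τ w w, H.sq w hw, mul_one, ht.sq]
  · rw [mul_eq_one_iff_eq_inv.1 e, H.inv_eq hw] at ht
    exact ht.not_commute H (H.comm w hw)

theorem exists_three {α : Type*} (V : Set α) (hV : Nat.card V = 4) (e : α) (he : e ∈ V) :
    ∃ a ∈ V, ∃ b ∈ V, ∃ c ∈ V, a ≠ e ∧ b ≠ e ∧ c ≠ e ∧ a ≠ b ∧ a ≠ c ∧ b ≠ c := by
  rw [Nat.card_coe_set_eq] at hV
  have h3 : (V \ {e}).ncard = 3 := by rw [Set.ncard_sdiff_singleton_of_mem he, hV]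
  obtain ⟨a, b, c, hab, hac, hbc, habc⟩ := Set.ncard_eq_three.1 h3
  have ha : a ∈ V \ {e} := by rw [habc]; simp
  have hb : b ∈ V \ {e} := by rw [habc]; simp
  have hc : c ∈ V \ {e} := by rw [habc]; simp
  exact ⟨a, ha.1, b, hb.1, c, hc.1, ha.2, hb.2, hc.2, hab, hac, hbc⟩

variable [Finite G]

theorem mu_pos_le (V : Subgroup G) (τ t : G) : mu V τ t ≤ Nat.card V := by
  exact Nat.card_le_card_of_injective (fun w : {w : V // IsConj t (τ * w)} => w.1) Subtype.val_injective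

/-- Some class has `μ = 1`, or the order of `V` is two and every class has `μ = 2`. -/
theorem exists_gcd (H : Hyp x V) (ht : Tau x V τ)
    (meet : ∀ t : G, orderOf t = 2 → 0 < mu V τ t) :
    ∃ (t₀ : G) (k : ℕ), orderOf t₀ = 2 ∧ mu V τ t₀ = k ∧ (k = 1 ∨ k = 2 ∧ Nat.card V = 2) ∧
      ∀ t : G, orderOf t = 2 → k ∣ mu V τ t := by
  classical
  haveI : Fact (Nat.Prime 2) := ⟨Nat.prime_two⟩
  by_cases h1 : ∃ t : G, orderOf t = 2 ∧ mu V τ t = 1
  · obtain ⟨t, ht2, e⟩ := h1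
    exact ⟨t, 1, ht2, e, Or.inl rfl, fun _ _ => one_dvd _⟩
  push_neg at h1
  have hge : ∀ t : G, orderOf t = 2 → 2 ≤ mu V τ t := fun t h => by
    have := meet t h; have := h1 t h; omega
  rcases H.card with hv | hv
  · have hall : ∀ t : G, orderOf t = 2 → mu V τ t = 2 := fun t h =>
      le_antisymm (hv ▸ mu_pos_le V τ t) (hge t h)
    exact ⟨τ, 2, ht.orderOf_eq H, hall τ (ht.orderOf_eq H), Or.inr ⟨rfl, hv⟩,
      fun t h => by rw [hall t h]⟩
  exfalso
  obtain ⟨a, ha, b, hb, c, hc, a1, b1, c1, hab, hac, hbc⟩ :=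
    exists_three (V : Set G) hv 1 V.one_mem
  have ord2 : ∀ u ∈ V, u ≠ (1 : G) → orderOf u = 2 := fun u hu h =>
    orderOf_eq_prime (by rw [pow_two]; exact H.sq u hu) h
  letI := Fintype.ofFinite V
  let S : G → Finset V := fun u => Finset.univ.filter fun w : V => IsConj u (τ * w)
  have hS : ∀ u, (S u).card = mu V τ u := fun u => by
    rw [mu, Nat.card_eq_fintype_card, Fintype.card_subtype]
  have hdis : ∀ u ∈ V, ∀ u' ∈ V, u ≠ u' → Disjoint (S u) (S u') := fun u hu u' hu' hne =>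
    Finset.disjoint_filter.2 fun w _ e e' => hne (H.eq_of_isConj ht hu hu' (e.trans e'.symm))
  have h2 := hge a (ord2 a ha a1)
  have h3 := hge b (ord2 b hb b1)
  have h4 := hge c (ord2 c hc c1)
  have h5 : ((S a) ∪ (S b) ∪ (S c)).card ≤ 4 := by
    rw [← hv, Nat.card_eq_fintype_card]
    exact Finset.card_le_univ _
  rw [Finset.card_union_of_disjoint (Finset.disjoint_union_left.2 ⟨hdis a ha c hc hac, hdis b hb c hc hbc⟩),
    Finset.card_union_of_disjoint (hdis a ha b hb hab), hS, hS, hS] at h5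
  omega

end Arith

theorem normStmt : NormStmt.{u} := by
  intro G _ _ x V τ F h S ht P
  have H := S.hyp
  obtain ⟨t₀, k, ht₀, hk₀, hkk, hdvd⟩ := Arith.exists_gcd H ht P.meet
  have hF : (0 : ℤ) < (F : ℤ) * ((F : ℤ) + 1) := by
    have := P.ge_seven
    positivity
  have hv : (0 : ℤ) < Nat.card V := by exact_mod_cast Nat.card_pos
  have hg : (0 : ℤ) < Nat.card G := by exact_mod_cast Nat.card_pos
  have hk : (0 : ℤ) < k := by
    rcases hkk with e | ⟨e, _⟩ <;> rw [e] <;> norm_num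
  have hc : (0 : ℤ) < cen t₀ := by exact_mod_cast (Nat.card_pos : 0 < cen t₀)
  have hL : (0 : ℤ) < (F : ℤ) - h t₀ := by
    have := abs_lt.1 (P.abs_lt t₀ ht₀); linarith
  obtain ⟨⟨a, ea⟩, ⟨b, eb⟩⟩ := P.class_dvd t₀ ht₀
  have c0 := P.cross t₀ t₀ ht₀ ht₀
  rw [hk₀] at c0
  -- the difference of the two quotients is the integer `s`
  have hgL : (b - a) * ((F : ℤ) * (F + 1)) * cen t₀ = Nat.card G * ((F : ℤ) - h t₀) := by
    linear_combination ((F : ℤ) + 1) * ea - (F : ℤ) * eb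
  have hsL : (b - a) * Nat.card V * ((F : ℤ) - h t₀) = 3 * (k : ℤ) ^ 2 * cen t₀ :=
    mul_right_cancel₀ (mul_pos hF hc).ne' (by
      linear_combination ((Nat.card V : ℤ) * ((F : ℤ) - h t₀)) * hgL - c0)
  have hs : 0 < b - a := by
    by_contra hn
    push_neg at hn
    have h1 : 0 < 3 * (k : ℤ) ^ 2 * cen t₀ := by positivity
    have h2 : (b - a) * Nat.card V * ((F : ℤ) - h t₀) ≤ 0 :=
      mul_nonpos_of_nonpos_of_nonneg (mul_nonpos_of_nonpos_of_nonneg hn hv.le) hL.le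
    linarith
  obtain ⟨s, hsd⟩ : ∃ s : ℕ, (s : ℤ) = b - a := ⟨(b - a).toNat, Int.toNat_of_nonneg hs.le⟩
  rw [← hsd] at hgL hsL
  have hcard : 3 * k ^ 2 * Nat.card G = s ^ 2 * F * (F + 1) * Nat.card V := by
    have h1 : (3 * (k : ℤ) ^ 2 * Nat.card G) = (s : ℤ) ^ 2 * F * ((F : ℤ) + 1) * Nat.card V :=
      mul_right_cancel₀ hL.ne' (by
        linear_combination -(3 * (k : ℤ) ^ 2) * hgL - ((s : ℤ) * F * ((F : ℤ) + 1)) * hsL)
    exact_mod_cast h1
  refine ⟨s, k, hkk, hdvd, ?_, ?_, hcard, fun t htt => ?_⟩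
  · rintro rfl
    exact ⟨t₀, ht₀, by rw [hk₀]⟩
  · have h3 := H.three_dvd
    have h9 := H.not_nine
    have hm : ¬ 3 ∣ F * (F + 1) * Nat.card V := by
      intro hd
      have hF3 := P.mod_three
      rcases (Nat.Prime.dvd_mul Nat.prime_three).1 hd with hd | hd
      · rcases (Nat.Prime.dvd_mul Nat.prime_three).1 hd with hd | hd <;> omega
      · exact H.not_three_dvd_V hd
    have e : s ^ 2 * (F * (F + 1) * Nat.card V) = 3 * k ^ 2 * Nat.card G := by rw [hcard]; ring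
    have hk3 : ¬ 3 ∣ k ^ 2 := by rcases hkk with e | ⟨e, _⟩ <;> rw [e] <;> norm_num
    refine ⟨?_, ?_⟩
    · have h1 : 3 ∣ s ^ 2 * (F * (F + 1) * Nat.card V) := e ▸ ⟨k ^ 2 * Nat.card G, by ring⟩
      rcases (Nat.Prime.dvd_mul Nat.prime_three).1 h1 with hd | hd
      · exact Nat.prime_three.dvd_of_dvd_pow hd
      · exact absurd hd hm
    · rintro ⟨s', rfl⟩
      apply h9
      have h1 : 9 * (k ^ 2 * Nat.card G / 9) = k ^ 2 * Nat.card G :=
        Nat.mul_div_cancel' ⟨3 * s' ^ 2 * (F * (F + 1) * Nat.card V), by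
          have : 3 * (k ^ 2 * Nat.card G) = 3 * (9 * (3 * s' ^ 2 * (F * (F + 1) * Nat.card V))) := by
            rw [← mul_assoc, ← e]; ring
          omega⟩
      have hcop : Nat.Coprime 9 (k ^ 2) := by rcases hkk with e | ⟨e, _⟩ <;> rw [e] <;> norm_num
      exact hcop.dvd_of_dvd_mul_left ⟨_, h1.symm⟩
  · have c1 := P.cross t t₀ htt ht₀
    rw [hk₀] at c1
    exact mul_right_cancel₀ (mul_pos hF hc).ne' (by
      linear_combination c1 - ((Nat.card V : ℤ) * ((F : ℤ) - h t)) * hgL)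

end Cfsg.Lib.ThreeFour
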